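import Groth.Agent.AlgSpEN.ZMT.UnitQC
import Groth.Agent.AlgSpB.SubQC.Approx
import Groth.Prelude.Def_AlgSpMor5
import Mathlib.AlgebraicGeometry.Morphisms.Integral
import Mathlib.RingTheory.IntegralClosure.IsIntegralClosure.Basic

/-!
# Finite subalgebras of an integral algebra on an algebraic space
-/

universe u

open CategoryTheory CategoryTheory.Limits AlgebraicGeometry Opposite

set_option backward.isDefEq.respectTransparency false
set_option backward.isDefEq.respectTransparency.types false
set_option autoImplicit false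

namespace Groth.Agent.AlgSpEN.ZMT

open _root_.AlgSp
open Groth.Agent.AlgSpQC
open Groth.Agent.AlgSpB.SubQC

variable {S : Scheme.{u}} {Y : Space S} {N : Sp S} {ν : N ⟶ Y.obj} (hν : Representable ν)

/-- Functions on base changes of charts are integral for an integral morphism. -/
theorem isIntegral_gπ (hint : IsIntegralMor ν) (E : EtOver Y.obj) [IsAffine E.obj.left.left] :
    (gπ hν E).IsIntegral := by
  obtain ⟨W, i, fst, h, hW, hi⟩ := hint (Z := E.obj.left) ‹_› E.obj.hom
  let e := (EtOver.isPullback_bcObj hν E).isoIsPullback _ _ h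
  let e' := (yon S).preimageIso e
  have he : e'.hom ≫ i = EtOver.bcπ hν E := (yon S).map_injective (by
    rw [Functor.map_comp, Functor.preimageIso_hom, Functor.map_preimage]
    exact IsPullback.isoIsPullback_hom_snd _ _ _ _)
  have : IsIso e'.hom.left := ((Over.forget S).mapIso e').isIso_hom
  have hπ : IsIntegralHom (EtOver.bcπ hν E).left := by
    rw [← he, Over.comp_left]
    infer_instance
  exact ((HasAffineProperty.iff_of_isAffine (P := @IsIntegralHom)).1 hπ).2

/-- A family of finite subalgebras of the functions on the base changes of charts. -/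
structure SubAlgData where
  /-- the subalgebra -/
  A : ∀ E : EtOver Y.obj, Subring (gr (bcO hν E))
  gπ_mem : ∀ (E : EtOver Y.obj) (a : gr E), gπ hν E a ∈ A E
  res_mem : ∀ {E W : EtOver Y.obj} (g : W ⟶ E) {b : gr (bcO hν E)}, b ∈ A E → gm (bcM hν g) b ∈ A W
  gen : ∀ {E W : EtOver Y.obj} (g : W ⟶ E), IsAffine E.obj.left.left → IsAffine W.obj.left.left →
    A W ≤ Subring.closure (Set.range (gπ hν W) ∪ gm (bcM hν g) '' (A E : Set (gr (bcO hν E))))
  finite : ∀ E : EtOver Y.obj, IsAffine E.obj.left.left → ((gπ hν E).codRestrict (A E) (gπ_mem E)).Finite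

set_option maxHeartbeats 1000000 in
/-- Finite subalgebras through given functions. -/
theorem exists_subAlgData [QuasiSeparatedSpace ↥S] (hint : IsIntegralMor ν) (hqc : IsQuasiCompactSp Y.obj)
    (hqs : IsQuasiSeparatedSp Y.obj) (E₀ : EtOver Y.obj) (hE₀ : IsAffine E₀.obj.left.left)
    (s : Finset (gr (bcO hν E₀))) : ∃ D : SubAlgData hν, ∀ b ∈ s, b ∈ D.A E₀ := by
  classical
  have haff : IsAffineMor ν := fun Z hZ g => by
    obtain ⟨W, i, fst, h, hW, -⟩ := hint hZ g
    exact ⟨W, i, fst, h, hW⟩
  have := isQuasicoherent_unit (X := N)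
  let M := (pushModEt hν).obj (unitModEt N)
  have : M.IsQuasicoherent := isQuasicoherent_push_affine haff (unitModEt N)
  let v : ∀ E : EtOver Y.obj, sectModEt M E ≃+ gr (bcO hν E) := fun E =>
    (pushSect hν (unitModEt N) E).trans (u1 (bcO hν E)).symm
  have hvs : ∀ (E : EtOver Y.obj) (a : gr E) (x : sectModEt M E), v E (a • x) = gπ hν E a * v E x := by
    intro E a x
    obtain ⟨y, rfl⟩ := (v E).symm.surjective x
    apply (u1 (bcO hν E)).injective
    change (u1 (bcO hν E)) ((u1 (bcO hν E)).symm (pushSect hν (unitModEt N) E (a • (v E).symm y))) = _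
    rw [AddEquiv.apply_symm_apply, pushSect_smul, AddEquiv.apply_symm_apply, ← smul_u1]
    rfl
  have hvr : ∀ {E W : EtOver Y.obj} (g : W ⟶ E) (x : sectModEt M E),
      v W (rs M g x) = gm (bcM hν g) (v E x) := by
    intro E W g x
    obtain ⟨y, rfl⟩ := (v E).symm.surjective x
    apply (u1 (bcO hν W)).injective
    change (u1 (bcO hν W)) ((u1 (bcO hν W)).symm (pushSect hν (unitModEt N) W (rs M g ((v E).symm y)))) = _
    rw [AddEquiv.apply_symm_apply, pushSect_rs, AddEquiv.apply_symm_apply, ← rs_u1]
    rfl
  obtain ⟨J, hJ, -, hfg, hmem⟩ := exists_fg_le hqc hqs (gen_topSub (M := M)) (κ := ↥s) (fun _ => E₀)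
    (fun _ => hE₀) (fun b => (v E₀).symm b.1) (fun _ => trivial)
  let A : ∀ E : EtOver Y.obj, Subring (gr (bcO hν E)) := fun E =>
    Subring.closure (Set.range (gπ hν E) ∪ v E '' (J.carrier E : Set (sectModEt M E)))
  have hmemJ : ∀ {E : EtOver Y.obj} {x : sectModEt M E}, x ∈ J.carrier E → v E x ∈ A E :=
    fun hx => Subring.subset_closure (.inr ⟨_, hx, rfl⟩)
  have halg : ∀ (E : EtOver Y.obj) (a : gr E), gπ hν E a ∈ A E := fun E a => Subring.subset_closure (.inl ⟨a, rfl⟩)
  refine ⟨⟨A, halg, fun {E W} g {b} hb => ?_, fun {E W} g hE hW => ?_, fun E hE => ?_⟩, fun b hb => ?_⟩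
  · suffices A E ≤ (A W).comap (gm (bcM hν g)) from this hb
    refine Subring.closure_le.2 ?_
    rintro _ (⟨a, rfl⟩ | ⟨x, hx, rfl⟩)
    · change gm (bcM hν g) (gπ hν E a) ∈ A W
      rw [← gπ_gm hν g a]
      exact halg W _
    · change gm (bcM hν g) (v E x) ∈ A W
      rw [← hvr g x]
      exact hmemJ (J.res_mem g hx)
  · refine Subring.closure_le.2 ?_
    rintro _ (h | ⟨x, hx, rfl⟩)
    · exact Subring.subset_closure (.inl h)
    · change v W x ∈ Subring.closure _
      have hx' := hJ g hE hW x hx
      clear hx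
      induction hx' using Submodule.span_induction with
      | mem y hy =>
        obtain ⟨z, hz, rfl⟩ := hy
        rw [hvr g z]
        exact Subring.subset_closure (.inr ⟨_, hmemJ hz, rfl⟩)
      | zero => rw [map_zero]; exact zero_mem _
      | add y z _ _ hy hz => rw [map_add]; exact add_mem hy hz
      | smul a y _ hy => rw [hvs]; exact mul_mem (Subring.subset_closure (.inl ⟨a, rfl⟩)) hy
  · letI := (gπ hν E).toAlgebra
    have hint' : ∀ y : gr (bcO hν E), IsIntegral (gr E) y := isIntegral_gπ hν hint E
    obtain ⟨F, hF⟩ := hfg E hE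
    let B := Algebra.adjoin (gr E) (v E '' (F : Set (sectModEt M E)))
    have hBA : B.toSubring = A E := by
      rw [Algebra.adjoin_eq_ring_closure]
      refine le_antisymm (Subring.closure_mono (Set.union_subset_union_right _ (Set.image_mono fun x hx => ?_)))
        (Subring.closure_le.2 ?_)
      · exact hF ▸ Submodule.subset_span hx
      · rintro _ (h | ⟨x, hx, rfl⟩)
        · exact Subring.subset_closure (.inl h)
        · rw [← Algebra.adjoin_eq_ring_closure]
          change v E x ∈ B
          rw [← hF] at hx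
          induction hx using Submodule.span_induction with
          | mem y hy => exact Algebra.subset_adjoin ⟨y, hy, rfl⟩
          | zero => rw [map_zero]; exact zero_mem _
          | add y z _ _ hy hz => rw [map_add]; exact add_mem hy hz
          | smul a y _ hy =>
            rw [hvs]
            exact mul_mem (Subalgebra.algebraMap_mem B a) hy
    have hBfin : Module.Finite (gr E) B :=
      Module.Finite.iff_fg.2 (fg_adjoin_of_finite ((Finset.finite_toSet F).image _) fun y _ => hint' y)
    let e : B →+* A E := RingHom.codRestrict B.val.toRingHom (A E) fun y => hBA ▸ y.2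
    have he : Function.Surjective e := fun y => ⟨⟨y.1, show y.1 ∈ B.toSubring from hBA.symm ▸ y.2⟩, rfl⟩
    have hcomp : (gπ hν E).codRestrict (A E) (halg E) = e.comp (algebraMap (gr E) B) := rfl
    rw [hcomp]
    exact (RingHom.Finite.of_surjective e he).comp (RingHom.finite_algebraMap.2 hBfin)
  · have := hmemJ (hmem ⟨b, hb⟩)
    rwa [AddEquiv.apply_symm_apply] at this

end Groth.Agent.AlgSpEN.ZMT
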