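import Groth.Agent.AlgSp.NormGlue
import Groth.Agent.AlgSp.KerFlat

/-!
# Descent of a dominant quotient of a space over an etale atlas
-/

set_option autoImplicit false
set_option backward.isDefEq.respectTransparency false
set_option backward.isDefEq.respectTransparency.types false

universe u

open CategoryTheory CategoryTheory.Limits AlgebraicGeometry Opposite

namespace Groth.Agent.AlgSpEN.ZMT

open _root_.AlgSp
open Groth.Agent.AlgSp.ElemDist

variable {S : Scheme.{u}}

/-- Maps to a separated scheme which agree after a morphism with zero kernel are equal. -/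
theorem eq_of_ker_eq_bot {N P T U : Scheme.{u}} (d : N ⟶ P) [QuasiCompact d] (hd : d.ker = ⊥) (t : T ⟶ U)
    [IsSeparated t] {a b : P ⟶ T} (hab : a ≫ t = b ≫ t) (h : d ≫ a = d ≫ b) : a = b := by
  have sq := IsPullback.of_hasPullback (pullback.diagonal t) (pullback.lift a b hab)
  have : IsClosedImmersion (pullback.diagonal t) := IsSeparated.isClosedImmersion_diagonal
  let e := pullback.snd (pullback.diagonal t) (pullback.lift a b hab)
  have : IsClosedImmersion e := MorphismProperty.of_isPullback sq inferInstance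
  obtain ⟨l, -, hl⟩ := sq.exists_lift (d ≫ a) d (by
    apply pullback.hom_ext <;> simp [h])
  have he : e.ker = ⊥ := by
    refine le_bot_iff.1 (hd ▸ ?_)
    rw [← hl]
    exact Scheme.Hom.le_ker_comp _ _
  have : IsIso e := by
    refine IsClosedImmersion.isIso_of_ker_eq e (𝟙 P) e (Category.comp_id e) ?_
    rw [he, Scheme.Hom.ker_eq_bot_of_isIso]
  have h1 := sq.w =≫ pullback.fst t t
  have h2 := sq.w =≫ pullback.snd t t
  simp only [Category.assoc, pullback.diagonal_fst, pullback.diagonal_snd, Category.comp_id, pullback.lift_fst,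
    pullback.lift_snd] at h1 h2
  rw [← cancel_epi e]
  exact h1.symm.trans h2

variable {V T N R : Over S} (ν : T ⟶ V) (νN : N ⟶ V) (d : N ⟶ T) (hd : d ≫ ν = νN)

/-- The base change of a morphism over `V`. -/
noncomputable def dB {W : Over S} (q : W ⟶ V) : pullback νN q ⟶ pullback ν q :=
  pullback.lift (pullback.fst νN q ≫ d) (pullback.snd νN q) (by rw [Category.assoc, hd, pullback.condition])

theorem dB_fst {W : Over S} (q : W ⟶ V) : dB ν νN d hd q ≫ pullback.fst ν q = pullback.fst νN q ≫ d :=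
  pullback.lift_fst _ _ _

theorem dB_snd {W : Over S} (q : W ⟶ V) : dB ν νN d hd q ≫ pullback.snd ν q = pullback.snd νN q :=
  pullback.lift_snd _ _ _

theorem isPullback_dB {W : Over S} (q : W ⟶ V) :
    IsPullback (pullback.fst νN q) (dB ν νN d hd q) d (pullback.fst ν q) :=
  IsPullback.of_bot (by rw [dB_snd, hd]; exact IsPullback.of_hasPullback νN q) (dB_fst ν νN d hd q).symm
    (IsPullback.of_hasPullback ν q)

theorem qc_dB {W : Over S} (q : W ⟶ V) [QuasiCompact d.left] : QuasiCompact (dB ν νN d hd q).left :=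
  MorphismProperty.of_isPullback ((isPullback_dB ν νN d hd q).map (Over.forget S)) ‹QuasiCompact d.left›

/-- Dominance is stable under flat base change. -/
theorem ker_dB {W : Over S} (q : W ⟶ V) [Flat q.left] [QuasiCompact d.left] (hker : d.left.ker = ⊥) :
    (dB ν νN d hd q).left.ker = ⊥ := by
  have : Flat (pullback.fst ν q).left :=
    MorphismProperty.of_isPullback ((IsPullback.of_hasPullback ν q).map (Over.forget S)).flip ‹Flat q.left›
  have : QuasiCompact ((Over.forget S).map d) := ‹QuasiCompact d.left›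
  have : Flat ((Over.forget S).map (pullback.fst ν q)) := ‹Flat (pullback.fst ν q).left›
  refine (AlgSp.KerFlat.ker_of_isPullback ((isPullback_dB ν νN d hd q).map (Over.forget S))).trans ?_
  exact (congrArg (fun I => Scheme.IdealSheafData.comap I (pullback.fst ν q).left) hker).trans
    (Scheme.IdealSheafData.comap_bot _)

/-- Maps over `V` agreeing on a dominant source are equal. -/
theorem hom_ext_dom [IsSeparated ν.left] {P Q : Over S} (e : Q ⟶ P) [QuasiCompact e.left] (he : e.left.ker = ⊥)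
    {a b : P ⟶ T} (hab : a ≫ ν = b ≫ ν) (h : e ≫ a = e ≫ b) : a = b :=
  Over.OverMorphism.ext (eq_of_ker_eq_bot e.left he ν.left (congrArg (fun m => m.left) hab)
    (congrArg (fun m => m.left) h))

variable {G N₀ : Sp S} (hG : IsAlgSpace G) (b : (yon S).obj V ⟶ G) (hb : RepWith @Etale b)
  (hbs : RepWith @Surjective b) {ν₀ : N₀ ⟶ G} {πN : (yon S).obj N ⟶ N₀}
  (sN : IsPullback πN ((yon S).map νN) ν₀ b) {q₁ q₂ : R ⟶ V}
  (sR : IsPullback ((yon S).map q₁) ((yon S).map q₂) b b)

include hd hG hb hbs sN sR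

set_option maxHeartbeats 2000000 in
/-- A dominant quotient `N → T` over the atlas whose two base changes to the relation agree descends. -/
theorem exists_descent [IsSeparated ν.left] [QuasiCompact d.left] (hker : d.left.ker = ⊥)
    (τ : pullback ν q₁ ⟶ T) (hτν : τ ≫ ν = pullback.snd ν q₁ ≫ q₂)
    (hτd : ∀ (Z : Over S) (x : Z ⟶ pullback νN q₁) (y : Z ⟶ N),
      (yon S).map y ≫ πN = (yon S).map (x ≫ pullback.fst νN q₁) ≫ πN →
      y ≫ νN = x ≫ pullback.snd νN q₁ ≫ q₂ → x ≫ dB ν νN d hd q₁ ≫ τ = y ≫ d) :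
    ∃ (T₀ : Sp S) (νT : T₀ ⟶ G) (π : (yon S).obj T ⟶ T₀) (θ : N₀ ⟶ T₀), IsAlgSpace T₀ ∧
      RepWith @Etale π ∧ RepWith @Surjective π ∧ IsPullback π ((yon S).map ν) νT b ∧
      θ ≫ νT = ν₀ ∧ πN ≫ θ = (yon S).map d ≫ π := by
  have hq₁ : Etale q₁.left := hb.2 _ _ _ sR.flip
  have hq₂ : Etale q₂.left := hb.2 _ _ _ sR
  have hqb : (yon S).map q₁ ≫ b = (yon S).map q₂ ≫ b := sR.w
  let σ := pullback.fst ν q₁
  -- the action on `N`
  have hex : ∀ {W : Over S} (q q' : W ⟶ V), (yon S).map q ≫ b = (yon S).map q' ≫ b →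
      ∃ y : pullback νN q ⟶ N, (yon S).map y ≫ πN = (yon S).map (pullback.fst νN q) ≫ πN ∧
        y ≫ νN = pullback.snd νN q ≫ q' := by
    intro W q q' w
    obtain ⟨y, hy⟩ := (yon S).map_surjective (sN.lift ((yon S).map (pullback.fst νN q) ≫ πN)
      ((yon S).map (pullback.snd νN q ≫ q')) (by
        rw [Category.assoc, sN.w, ← Functor.map_comp_assoc, pullback.condition, Functor.map_comp_assoc, w,
          ← Functor.map_comp_assoc]))
    exact ⟨y, by rw [hy, sN.lift_fst], (yon S).map_injective (by rw [Functor.map_comp, hy, sN.lift_snd])⟩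
  have hNext : ∀ {Z : Over S} (y y' : Z ⟶ N), (yon S).map y ≫ πN = (yon S).map y' ≫ πN → y ≫ νN = y' ≫ νN →
      y = y' := fun y y' h1 h2 => (yon S).map_injective (sN.hom_ext h1 (by
    rw [← Functor.map_comp, ← Functor.map_comp, h2]))
  -- the identity
  obtain ⟨Δ, hΔ⟩ := (yon S).map_surjective (sR.lift (𝟙 _) (𝟙 _) rfl)
  have hΔ₁ : Δ ≫ q₁ = 𝟙 V := (yon S).map_injective (by
    rw [Functor.map_comp, hΔ, sR.lift_fst, CategoryTheory.Functor.map_id])
  have hΔ₂ : Δ ≫ q₂ = 𝟙 V := (yon S).map_injective (by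
    rw [Functor.map_comp, hΔ, sR.lift_snd, CategoryTheory.Functor.map_id])
  let δ : T ⟶ pullback ν q₁ := pullback.lift (𝟙 T) (ν ≫ Δ) (by rw [Category.assoc, hΔ₁, Category.comp_id, Category.id_comp])
  have hδ₁ : δ ≫ σ = 𝟙 T := pullback.lift_fst _ _ _
  have hδ₂ : δ ≫ pullback.snd ν q₁ = ν ≫ Δ := pullback.lift_snd _ _ _
  have hδτ : δ ≫ τ = 𝟙 T := by
    refine hom_ext_dom ν d hker ?_ ?_
    · rw [Category.assoc, hτν, reassoc_of% hδ₂, hΔ₂, Category.comp_id, Category.id_comp]
    · let δN : N ⟶ pullback νN q₁ := pullback.lift (𝟙 N) (νN ≫ Δ) (by rw [Category.assoc, hΔ₁, Category.comp_id, Category.id_comp])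
      have e : d ≫ δ = δN ≫ dB ν νN d hd q₁ := by
        apply pullback.hom_ext
        · rw [Category.assoc, hδ₁, Category.assoc, dB_fst, pullback.lift_fst_assoc, Category.comp_id, Category.id_comp]
        · rw [Category.assoc, hδ₂, Category.assoc, dB_snd, pullback.lift_snd, ← Category.assoc, hd]
      rw [reassoc_of% e, Category.comp_id, hτd _ δN (𝟙 N) (by rw [pullback.lift_fst])
        (by rw [pullback.lift_snd_assoc, Category.id_comp, Category.assoc, hΔ₂, Category.comp_id]), Category.id_comp]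
  -- the inverse
  obtain ⟨sw, hsw⟩ := (yon S).map_surjective (sR.lift ((yon S).map q₂) ((yon S).map q₁) hqb.symm)
  have hsw₁ : sw ≫ q₁ = q₂ := (yon S).map_injective (by rw [Functor.map_comp, hsw, sR.lift_fst])
  have hsw₂ : sw ≫ q₂ = q₁ := (yon S).map_injective (by rw [Functor.map_comp, hsw, sR.lift_snd])
  let ε : pullback ν q₁ ⟶ pullback ν q₁ := pullback.lift τ (pullback.snd ν q₁ ≫ sw)
    (by rw [hτν, Category.assoc, hsw₁])
  have hε₁ : ε ≫ σ = τ := pullback.lift_fst _ _ _
  have hε₂ : ε ≫ pullback.snd ν q₁ = pullback.snd ν q₁ ≫ sw := pullback.lift_snd _ _ _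
  have hετ : ε ≫ τ = σ := by
    have := qc_dB ν νN d hd q₁
    refine hom_ext_dom ν (dB ν νN d hd q₁) (ker_dB ν νN d hd q₁ hker) ?_ ?_
    · rw [Category.assoc, hτν, reassoc_of% hε₂, hsw₂, pullback.condition]
    · obtain ⟨y, hy₁, hy₂⟩ := hex q₁ q₂ hqb
      let εN : pullback νN q₁ ⟶ pullback νN q₁ := pullback.lift y (pullback.snd νN q₁ ≫ sw)
        (by rw [hy₂, Category.assoc, hsw₁])
      have e : dB ν νN d hd q₁ ≫ ε = εN ≫ dB ν νN d hd q₁ := by
        apply pullback.hom_ext
        · rw [Category.assoc, hε₁, Category.assoc, dB_fst, pullback.lift_fst_assoc]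
          simpa using hτd _ (𝟙 _) y (by rw [Category.id_comp]; exact hy₁) (by rw [Category.id_comp]; exact hy₂)
        · rw [Category.assoc, hε₂, Category.assoc, dB_snd, pullback.lift_snd, ← Category.assoc, dB_snd]
      rw [reassoc_of% e, dB_fst, hτd _ εN (pullback.fst νN q₁)
        (by rw [pullback.lift_fst]; exact hy₁.symm)
        (by rw [pullback.lift_snd_assoc, Category.assoc, hsw₂, pullback.condition])]
  -- the composition
  let r₁ := pullback.fst q₂ q₁
  let r₂ := pullback.snd q₂ q₁
  have hr : r₁ ≫ q₂ = r₂ ≫ q₁ := pullback.condition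
  obtain ⟨c, hc⟩ := (yon S).map_surjective (sR.lift ((yon S).map (r₁ ≫ q₁))
    ((yon S).map (r₂ ≫ q₂)) (by
      rw [Functor.map_comp, Functor.map_comp, Category.assoc, Category.assoc, hqb, ← hqb]
      conv_lhs => rw [hqb, ← Category.assoc, ← Functor.map_comp, hr, Functor.map_comp, Category.assoc]))
  have hc₁ : c ≫ q₁ = r₁ ≫ q₁ := (yon S).map_injective (by rw [Functor.map_comp, hc, sR.lift_fst])
  have hc₂ : c ≫ q₂ = r₂ ≫ q₂ := (yon S).map_injective (by rw [Functor.map_comp, hc, sR.lift_snd])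
  let e₀ := r₁ ≫ q₁
  have he₀ : Flat e₀.left := by
    have : Etale r₁.left :=
      MorphismProperty.of_isPullback ((IsPullback.of_hasPullback q₂ q₁).map (Over.forget S)).flip hq₁
    change Flat (r₁.left ≫ q₁.left); infer_instance
  let x : pullback ν e₀ ⟶ pullback ν q₁ := pullback.lift (pullback.fst ν e₀) (pullback.snd ν e₀ ≫ r₁)
    (by rw [Category.assoc]; exact pullback.condition)
  have hxσ : x ≫ σ = pullback.fst ν e₀ := pullback.lift_fst _ _ _
  have hx₂ : x ≫ pullback.snd ν q₁ = pullback.snd ν e₀ ≫ r₁ := pullback.lift_snd _ _ _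
  let y : pullback ν e₀ ⟶ pullback ν q₁ := pullback.lift (x ≫ τ) (pullback.snd ν e₀ ≫ r₂)
    (by rw [Category.assoc, hτν, reassoc_of% hx₂, Category.assoc, hr])
  have hyσ : y ≫ σ = x ≫ τ := pullback.lift_fst _ _ _
  have hy₂ : y ≫ pullback.snd ν q₁ = pullback.snd ν e₀ ≫ r₂ := pullback.lift_snd _ _ _
  let z : pullback ν e₀ ⟶ pullback ν q₁ := pullback.lift (pullback.fst ν e₀) (pullback.snd ν e₀ ≫ c)
    (by rw [Category.assoc, hc₁]; exact pullback.condition)
  have hzσ : z ≫ σ = pullback.fst ν e₀ := pullback.lift_fst _ _ _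
  have hz₂ : z ≫ pullback.snd ν q₁ = pullback.snd ν e₀ ≫ c := pullback.lift_snd _ _ _
  have hyz : y ≫ τ = z ≫ τ := by
    have := qc_dB ν νN d hd e₀
    refine hom_ext_dom ν (dB ν νN d hd e₀) (ker_dB ν νN d hd e₀ hker) ?_ ?_
    · rw [Category.assoc, hτν, reassoc_of% hy₂, Category.assoc, hτν, reassoc_of% hz₂, hc₂]
    · let xN : pullback νN e₀ ⟶ pullback νN q₁ := pullback.lift (pullback.fst νN e₀) (pullback.snd νN e₀ ≫ r₁)
        (by rw [Category.assoc]; exact pullback.condition)
      obtain ⟨y₁, hy₁a, hy₁b⟩ := hex e₀ (r₁ ≫ q₂) (by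
        rw [Functor.map_comp, Functor.map_comp, Category.assoc, Category.assoc, hqb])
      obtain ⟨y₂, hy₂a, hy₂b⟩ := hex e₀ (r₂ ≫ q₂) (by
        rw [show e₀ = c ≫ q₁ from hc₁.symm, ← hc₂, Functor.map_comp, Functor.map_comp, Category.assoc, Category.assoc, hqb])
      let yN : pullback νN e₀ ⟶ pullback νN q₁ := pullback.lift y₁ (pullback.snd νN e₀ ≫ r₂)
        (by rw [hy₁b, Category.assoc, hr])
      let zN : pullback νN e₀ ⟶ pullback νN q₁ := pullback.lift (pullback.fst νN e₀) (pullback.snd νN e₀ ≫ c)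
        (by rw [Category.assoc, hc₁]; exact pullback.condition)
      have ex : dB ν νN d hd e₀ ≫ x = xN ≫ dB ν νN d hd q₁ := by
        apply pullback.hom_ext
        · rw [Category.assoc, hxσ, Category.assoc, dB_fst, dB_fst, pullback.lift_fst_assoc]
        · rw [Category.assoc, hx₂, Category.assoc, dB_snd, pullback.lift_snd, ← Category.assoc, dB_snd]
      have ey : dB ν νN d hd e₀ ≫ y = yN ≫ dB ν νN d hd q₁ := by
        apply pullback.hom_ext
        · rw [Category.assoc, hyσ, reassoc_of% ex, Category.assoc, dB_fst, pullback.lift_fst_assoc]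
          exact hτd _ xN y₁ (by rw [pullback.lift_fst]; exact hy₁a)
            (by rw [pullback.lift_snd_assoc, Category.assoc]; exact hy₁b)
        · rw [Category.assoc, hy₂, Category.assoc, dB_snd, pullback.lift_snd, ← Category.assoc, dB_snd]
      have ez : dB ν νN d hd e₀ ≫ z = zN ≫ dB ν νN d hd q₁ := by
        apply pullback.hom_ext
        · rw [Category.assoc, hzσ, Category.assoc, dB_fst, dB_fst, pullback.lift_fst_assoc]
        · rw [Category.assoc, hz₂, Category.assoc, dB_snd, pullback.lift_snd, ← Category.assoc, dB_snd]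
      rw [reassoc_of% ey, reassoc_of% ez,
        hτd _ yN y₂ (by rw [pullback.lift_fst, hy₂a, hy₁a])
          (by rw [pullback.lift_snd_assoc, Category.assoc]; exact hy₂b),
        hτd _ zN y₂ (by rw [pullback.lift_fst]; exact hy₂a)
          (by rw [pullback.lift_snd_assoc, Category.assoc, hc₂]; exact hy₂b)]
  -- the equivalence relation
  have hinj : ∀ (Z : Over S) (r r' : Z ⟶ pullback ν q₁), r ≫ τ = r' ≫ τ → r ≫ σ = r' ≫ σ → r = r' := by
    intro Z r r' ht hs
    apply pullback.hom_ext hs
    apply (yon S).map_injective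
    apply sR.hom_ext
    · rw [← Functor.map_comp, ← Functor.map_comp, Category.assoc, Category.assoc,
        ← (pullback.condition (f := ν) (g := q₁)), reassoc_of% hs]
    · rw [← Functor.map_comp, ← Functor.map_comp, Category.assoc, Category.assoc, ← hτν, reassoc_of% ht]
  have hrel : IsEqvRel σ τ := by
    refine ⟨hinj, fun Z => ⟨fun a => ⟨a ≫ δ, by rw [Category.assoc, hδτ, Category.comp_id],
      by rw [Category.assoc, hδ₁, Category.comp_id]⟩, ?_, ?_⟩⟩
    · rintro a b' ⟨r, h1, h2⟩
      exact ⟨r ≫ ε, by rw [Category.assoc, hετ, h2], by rw [Category.assoc, hε₁, h1]⟩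
    · rintro a b' c' ⟨r, h1, h2⟩ ⟨r', h1', h2'⟩
      have hw : (r' ≫ pullback.snd ν q₁) ≫ q₂ = (r ≫ pullback.snd ν q₁) ≫ q₁ := by
        rw [Category.assoc, ← hτν, reassoc_of% h1', Category.assoc, ← (pullback.condition (f := ν) (g := q₁)),
          reassoc_of% h2]
      let w : Z ⟶ pullback ν e₀ := pullback.lift c'
        (pullback.lift (r' ≫ pullback.snd ν q₁) (r ≫ pullback.snd ν q₁) hw) (by
          rw [pullback.lift_fst_assoc, Category.assoc, ← (pullback.condition (f := ν) (g := q₁)), reassoc_of% h2'])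
      have hwx : w ≫ x = r' := pullback.hom_ext
        (by rw [Category.assoc, hxσ, pullback.lift_fst, h2'])
        (by rw [Category.assoc, hx₂, pullback.lift_snd_assoc, pullback.lift_fst])
      have hwy : w ≫ y = r := pullback.hom_ext
        (by rw [Category.assoc, hyσ, reassoc_of% hwx, h1', h2])
        (by rw [Category.assoc, hy₂, pullback.lift_snd_assoc, pullback.lift_snd])
      exact ⟨w ≫ z, by rw [Category.assoc, ← hyz, reassoc_of% hwy, h1],
        by rw [Category.assoc, hzσ, pullback.lift_fst]⟩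
  have hσe : Etale σ.left :=
    MorphismProperty.of_isPullback ((IsPullback.of_hasPullback ν q₁).map (Over.forget S)).flip hq₁
  obtain ⟨π, hπs₀, sq⟩ : ∃ π : (yon S).obj T ⟶ QuotSh.quot Scheme.fppfPrecoverage σ τ,
      Sheaf.IsLocallySurjective π ∧ IsPullback ((yon S).map τ) ((yon S).map σ) π π :=
    ⟨_, AlgSp.isLocallySurjective_yπ σ τ, AlgSp.isPullback_yπ σ τ hrel⟩
  obtain ⟨hX', hπe, hπs⟩ := AlgSp.isAlgSpace_of_kernelPair π sq hσe
  obtain ⟨colim⟩ := AlgSp.isColimit_of_isPullback π sq
  obtain ⟨νX, hνX⟩ : ∃ νX, π ≫ νX = (yon S).map ν ≫ b :=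
    ⟨_, (Cofork.IsColimit.desc' colim ((yon S).map ν ≫ b) (by
      rw [← Functor.map_comp_assoc, ← Functor.map_comp_assoc, hτν, pullback.condition, Functor.map_comp,
        Functor.map_comp, Category.assoc, Category.assoc, hqb])).2⟩
  -- cartesianness
  have hinjπ : ∀ {Z : Over S} (n n' : Z ⟶ T),
      (yon S).map n ≫ π = (yon S).map n' ≫ π → n ≫ ν = n' ≫ ν → n = n' := by
    intro Z n n' e1 e2
    obtain ⟨r, hr'⟩ := (yon S).map_surjective (sq.lift _ _ e1)
    have h1 : r ≫ τ = n := (yon S).map_injective (by rw [Functor.map_comp, hr', sq.lift_fst])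
    have h2 : r ≫ σ = n' := (yon S).map_injective (by rw [Functor.map_comp, hr', sq.lift_snd])
    have : r = n' ≫ δ := by
      apply pullback.hom_ext
      · rw [h2, Category.assoc, hδ₁, Category.comp_id]
      · apply (yon S).map_injective
        apply sR.hom_ext
        · rw [← Functor.map_comp, ← Functor.map_comp, Category.assoc, Category.assoc, Category.assoc, reassoc_of% hδ₂, hΔ₁,
            Category.comp_id, ← (pullback.condition (f := ν) (g := q₁)), reassoc_of% h2]
        · rw [← Functor.map_comp, ← Functor.map_comp, Category.assoc, Category.assoc, Category.assoc, reassoc_of% hδ₂, hΔ₂,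
            Category.comp_id, ← hτν, reassoc_of% h1, e2]
    rw [← h1, this, Category.assoc, hδτ, Category.comp_id]
  have sX : IsPullback π ((yon S).map ν) νX b := by
    let θ := pullback.lift (f := νX) (g := b) π ((yon S).map ν) hνX
    have : IsIso θ := by
      refine AlgSp.isIso_of_yon θ fun Z x => ?_
      obtain ⟨v, hv⟩ := (yon S).map_surjective (x ≫ pullback.snd νX b)
      obtain ⟨T', n, k, sT⟩ := AlgSpB.exists_pullback_yon hπe.1 (x ≫ pullback.fst νX b)
      have hke : Etale k.left := hπe.2 _ _ _ sT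
      have hks : Surjective k.left := hπs.2 _ _ _ sT
      have hb' : (yon S).map (n ≫ ν) ≫ b = (yon S).map (k ≫ v) ≫ b := by
        rw [Functor.map_comp, Functor.map_comp, Category.assoc, Category.assoc, ← hνX, hv, Category.assoc,
          ← pullback.condition, ← Category.assoc, sT.w, Category.assoc, Category.assoc]
      obtain ⟨ρ, hρ⟩ := (yon S).map_surjective (sR.lift _ _ hb')
      have hρ₁ : ρ ≫ q₁ = n ≫ ν := (yon S).map_injective (by rw [Functor.map_comp, hρ, sR.lift_fst])
      have hρ₂ : ρ ≫ q₂ = k ≫ v := (yon S).map_injective (by rw [Functor.map_comp, hρ, sR.lift_snd])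
      obtain ⟨y', hy'ν, hy'π⟩ : ∃ y' : T' ⟶ T, y' ≫ ν = k ≫ v ∧
          (yon S).map y' ≫ π = (yon S).map k ≫ x ≫ pullback.fst νX b :=
        ⟨pullback.lift n ρ hρ₁.symm ≫ τ, by rw [Category.assoc, hτν, pullback.lift_snd_assoc, hρ₂],
          by rw [Functor.map_comp, Category.assoc, sq.w, ← Functor.map_comp_assoc, pullback.lift_fst, sT.w]⟩
      have hkfam : ∀ z, ∃ (_ : PUnit.{1}) (t : T'.left), Points.ofPt ((yon S).map k) t = z := fun z => by
        obtain ⟨z, rfl⟩ := (Points.schemeHomeo Z).surjective z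
        obtain ⟨t, ht⟩ := hks.surj z
        exact ⟨⟨⟩, t, (Points.ofPt_eq_map_ofScheme _ _).trans
          ((Points.map_yon_map_apply k t).trans (congrArg (Points.ofScheme Z) ht))⟩
      have hkE : RepWith @Etale ((yon S).map k) := (repWith_yon_map_iff _ _).2 hke
      obtain ⟨l, hl⟩ := exists_desc_fam (p := fun _ : PUnit.{1} => (yon S).map k) (fun _ => hkE) hkfam
        (fun _ => (yon S).map y') fun _ _ W α β' hαβ => by
          obtain ⟨α, rfl⟩ := (yon S).map_surjective α
          obtain ⟨β', rfl⟩ := (yon S).map_surjective β'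
          rw [← Functor.map_comp, ← Functor.map_comp]
          congr 1
          refine hinjπ _ _ ?_ ?_
          · rw [Functor.map_comp, Functor.map_comp, Category.assoc, Category.assoc, hy'π, reassoc_of% hαβ]
          · rw [Category.assoc, Category.assoc, hy'ν, ← Category.assoc, ← Category.assoc,
              (yon S).map_injective (show (yon S).map (α ≫ k) = (yon S).map (β' ≫ k) by
                rw [Functor.map_comp, Functor.map_comp, hαβ])]
      obtain ⟨y, rfl⟩ := (yon S).map_surjective l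
      refine ⟨y, hom_ext_fam (p := fun _ : PUnit.{1} => (yon S).map k) (fun _ => hkE) hkfam fun i => ?_,
        fun y₁ hy₁ => ?_⟩
      · rw [← Category.assoc, hl i]
        apply pullback.hom_ext
        · rw [Category.assoc, pullback.lift_fst, hy'π, Category.assoc]
        · rw [Category.assoc, pullback.lift_snd, ← Functor.map_comp, hy'ν, Functor.map_comp, hv, Category.assoc]
      · apply (yon S).map_injective
        refine hom_ext_fam (p := fun _ : PUnit.{1} => (yon S).map k) (fun _ => hkE) hkfam fun i => ?_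
        rw [hl i, ← Functor.map_comp]
        congr 1
        refine hinjπ _ _ ?_ ?_
        · rw [hy'π, Functor.map_comp, Category.assoc, ← hy₁, Category.assoc, pullback.lift_fst]
        · rw [hy'ν, Category.assoc]
          congr 1
          apply (yon S).map_injective
          rw [Functor.map_comp, hv, ← hy₁, Category.assoc, pullback.lift_snd]
    exact IsPullback.of_iso_pullback ⟨hνX⟩ (asIso θ) (pullback.lift_fst _ _ _) (pullback.lift_snd _ _ _)
  -- the map from `N₀`
  have hπNe : RepWith @Etale πN := MorphismProperty.of_isPullback sN.flip hb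
  have hπNs : RepWith @Surjective πN := MorphismProperty.of_isPullback sN.flip hbs
  have := AlgSp.isLocallySurjective_of_etale_surjective πN hπNe hπNs
  obtain ⟨K, u, v, sK⟩ : ∃ (K : Over S) (u v : K ⟶ N), IsPullback ((yon S).map u) ((yon S).map v) πN πN :=
    AlgSpB.exists_pullback_yon hπNe.1 πN
  obtain ⟨colN⟩ := AlgSp.isColimit_of_isPullback πN sK
  obtain ⟨θ, hθ⟩ := Cofork.IsColimit.desc' colN ((yon S).map d ≫ π) (by
    have huv : (yon S).map u ≫ πN = (yon S).map v ≫ πN := sK.w
    have hbb : (yon S).map (u ≫ νN) ≫ b = (yon S).map (v ≫ νN) ≫ b := by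
      rw [Functor.map_comp, Functor.map_comp, Category.assoc, Category.assoc, ← sN.w, reassoc_of% huv]
    obtain ⟨r, hr'⟩ := (yon S).map_surjective (sR.lift _ _ hbb)
    have h1 : r ≫ q₁ = u ≫ νN := (yon S).map_injective (by rw [Functor.map_comp, hr', sR.lift_fst])
    have h2 : r ≫ q₂ = v ≫ νN := (yon S).map_injective (by rw [Functor.map_comp, hr', sR.lift_snd])
    let m : K ⟶ pullback νN q₁ := pullback.lift u r h1.symm
    have hm : m ≫ dB ν νN d hd q₁ ≫ τ = v ≫ d :=
      hτd _ m v (by rw [pullback.lift_fst]; exact huv.symm) (by rw [pullback.lift_snd_assoc]; exact h2.symm)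
    have hm' : m ≫ dB ν νN d hd q₁ ≫ σ = u ≫ d := by rw [dB_fst, pullback.lift_fst_assoc]
    rw [← Functor.map_comp_assoc, ← Functor.map_comp_assoc, ← hm', ← hm, Functor.map_comp, Functor.map_comp,
      Functor.map_comp, Functor.map_comp, Category.assoc, Category.assoc, Category.assoc, Category.assoc, sq.w])
  change πN ≫ θ = (yon S).map d ≫ π at hθ
  refine ⟨_, νX, π, θ, hX', hπe, hπs, sX, ?_, hθ⟩
  have : Epi πN := Sheaf.epi_of_isLocallySurjective πN
  rw [← cancel_epi πN, reassoc_of% hθ, hνX, ← Functor.map_comp_assoc, hd, sN.w]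

end Groth.Agent.AlgSpEN.ZMT
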