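import Mathlib.AlgebraicGeometry.Morphisms.FiniteType
import Mathlib.AlgebraicGeometry.Morphisms.Affine

/-!
# Open subschemes of affine schemes descend to affine schemes with enough functions
-/

universe u

open CategoryTheory CategoryTheory.Limits AlgebraicGeometry Opposite TopologicalSpace

set_option backward.isDefEq.respectTransparency false
set_option backward.isDefEq.respectTransparency.types false
set_option autoImplicit false

namespace Groth.Agent.AlgSpEN.ZMT

variable {N U : Scheme.{u}} [IsAffine N] [IsAffine U] (a : N ⟶ U)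

/-- A finitely generated open basic piece is determined by finitely many functions. -/
theorem exists_finset_basicOpen (b : Γ(N, ⊤)) [LocallyOfFiniteType ((N.basicOpen b).ι ≫ a)] :
    ∃ s : Finset Γ(N, ⊤), b ∈ s ∧ ∀ (T : Scheme.{u}) (_ : IsAffine T) (d : N ⟶ T),
      Function.Injective d.appTop.hom → (∀ x ∈ s, x ∈ Set.range d.appTop.hom) →
      ∀ t : T ⟶ U, d ≫ t = a → ∃ V : T.Opens, d ⁻¹ᵁ V = N.basicOpen b ∧ IsIso (d ∣_ V) := by
  classical
  have hb := isAffineOpen_top N |>.basicOpen b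
  have : IsAffine (N.basicOpen b).toScheme := hb
  let φ : Γ(U, ⊤) ⟶ Γ(N, N.basicOpen b) := a.appLE ⊤ (N.basicOpen b) le_top
  have hφ : φ.hom.FiniteType := by
    have h1 := (HasRingHomProperty.appTop @LocallyOfFiniteType ((N.basicOpen b).ι ≫ a) inferInstance :)
    have e : φ = ((N.basicOpen b).ι ≫ a).appTop ≫ (N.basicOpen b).topIso.hom := by
      simp only [φ, Scheme.Hom.appLE, Scheme.Hom.comp_appTop, Scheme.Opens.ι_appTop, Scheme.Opens.topIso_hom,
        Category.assoc, ← Functor.map_comp]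
      rfl
    rw [e, CommRingCat.hom_comp]
    exact (RingHom.FiniteType.of_surjective _
      (ConcreteCategory.bijective_of_isIso (N.basicOpen b).topIso.hom).2).comp h1
  letI := φ.hom.toAlgebra
  have : Algebra.FiniteType Γ(U, ⊤) Γ(N, N.basicOpen b) := hφ
  obtain ⟨G, hG⟩ := this.out
  choose num hnum using fun y : Γ(N, N.basicOpen b) =>
    IsLocalization.surj (Submonoid.powers b) y
  refine ⟨insert b (G.image fun y => (num y).1), Finset.mem_insert_self _ _, fun T _ d hinj hs t ht => ?_⟩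
  obtain ⟨b₀, hb₀⟩ := hs b (Finset.mem_insert_self _ _)
  refine ⟨T.basicOpen b₀, ?_, ?_⟩
  · rw [Scheme.preimage_basicOpen_top]
    exact congrArg _ hb₀
  have hpre : d ⁻¹ᵁ T.basicOpen b₀ = N.basicOpen b := by
    rw [Scheme.preimage_basicOpen_top]
    exact congrArg _ hb₀
  have hT := isAffineOpen_top T |>.basicOpen b₀
  have : IsAffine (T.basicOpen b₀).toScheme := hT
  have : IsAffine (d ⁻¹ᵁ T.basicOpen b₀).toScheme := hpre ▸ hb
  let ψ : Γ(T, T.basicOpen b₀) ⟶ Γ(N, N.basicOpen b) :=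
    d.appLE (T.basicOpen b₀) (N.basicOpen b) hpre.ge
  have hres : ∀ x : Γ(T, ⊤), ψ (algebraMap Γ(T, ⊤) Γ(T, T.basicOpen b₀) x) =
      algebraMap Γ(N, ⊤) Γ(N, N.basicOpen b) (d.appTop x) := by
    intro x
    change (T.presheaf.map (homOfLE le_top).op ≫ ψ) x = (d.appTop ≫ N.presheaf.map (homOfLE le_top).op) x
    simp [ψ, Scheme.Hom.appLE, ← Functor.map_comp]
    rfl
  have hinjψ : Function.Injective ψ.hom := by
    rw [injective_iff_map_eq_zero]
    intro z hz
    obtain ⟨⟨x, m⟩, hm⟩ := IsLocalization.surj (Submonoid.powers b₀) z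
    have hx0 : algebraMap Γ(N, ⊤) Γ(N, N.basicOpen b) (d.appTop x) = 0 := by
      rw [← hres, ← hm, map_mul]
      change ψ.hom z * _ = 0
      rw [hz, zero_mul]
    obtain ⟨⟨_, n, rfl⟩, hn⟩ := (IsLocalization.map_eq_zero_iff (Submonoid.powers b) _ _).1 hx0
    have hn' : b₀ ^ n * x = 0 := hinj (by
      change d.appTop.hom (b₀ ^ n * x) = d.appTop.hom 0
      rw [map_mul, map_pow, map_zero]
      change (d.appTop b₀) ^ n * _ = 0
      rw [hb₀]
      exact hn)
    have hu : IsUnit (algebraMap Γ(T, ⊤) Γ(T, T.basicOpen b₀) m) := IsLocalization.map_units _ m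
    refine hu.mul_left_eq_zero.1 ?_
    rw [hm, IsLocalization.map_eq_zero_iff (Submonoid.powers b₀)]
    exact ⟨⟨_, n, rfl⟩, hn'⟩
  have hsurjψ : Function.Surjective ψ.hom := by
    let I : Subalgebra Γ(U, ⊤) Γ(N, N.basicOpen b) :=
      { ψ.hom.range.toSubsemiring with
        algebraMap_mem' := fun r => by
          refine ⟨t.appLE ⊤ (T.basicOpen b₀) le_top r, ?_⟩
          change (t.appLE ⊤ (T.basicOpen b₀) le_top ≫ ψ) r = φ r
          simp [ψ, φ, Scheme.Hom.appLE_comp_appLE, ht] }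
    suffices (⊤ : Subalgebra Γ(U, ⊤) Γ(N, N.basicOpen b)) ≤ I from fun y => this (Algebra.mem_top (x := y))
    rw [← hG]
    refine Algebra.adjoin_le fun y hy => ?_
    obtain ⟨x₀, hx₀⟩ := hs (num y).1 (Finset.mem_insert_of_mem (Finset.mem_image_of_mem _ hy))
    obtain ⟨n, hn⟩ := (num y).2.2
    have hu : IsUnit (algebraMap Γ(T, ⊤) Γ(T, T.basicOpen b₀) b₀) :=
      IsLocalization.Away.algebraMap_isUnit b₀
    refine ⟨algebraMap Γ(T, ⊤) Γ(T, T.basicOpen b₀) x₀ * ((hu.unit⁻¹ : (Γ(T, T.basicOpen b₀))ˣ) : Γ(T, T.basicOpen b₀)) ^ n, ?_⟩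
    have hy' : y * algebraMap Γ(N, ⊤) Γ(N, N.basicOpen b) b ^ n = algebraMap Γ(N, ⊤) Γ(N, N.basicOpen b) (num y).1 := by
      rw [← hnum y, ← map_pow]
      exact congrArg (fun z => y * algebraMap _ _ z) hn
    rw [map_mul, map_pow]
    change ψ (algebraMap _ _ x₀) * _ = y
    have h5 : ψ (algebraMap Γ(T, ⊤) Γ(T, T.basicOpen b₀) b₀) = algebraMap Γ(N, ⊤) Γ(N, N.basicOpen b) b := by
      rw [hres]; exact congrArg _ hb₀
    rw [hres, hx₀, ← hy', mul_assoc, ← mul_pow, ← h5]
    change y * (ψ.hom _ * ψ.hom _) ^ n = y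
    rw [← map_mul, IsUnit.mul_val_inv, map_one, one_pow, mul_one]
  have happ : IsIso (d ∣_ T.basicOpen b₀).appTop := by
    have hψiso : IsIso ψ := ConcreteCategory.isIso_iff_bijective _ |>.2 ⟨hinjψ, hsurjψ⟩
    rw [Scheme.Hom.appTop, Scheme.Hom.app_eq_appLE, morphismRestrict_appLE]
    exact (d.appLE_congr _ (T.basicOpen b₀).ι_image_top
      ((d ⁻¹ᵁ T.basicOpen b₀).ι_image_top.trans hpre) (fun f => IsIso f)).2 ‹IsIso ψ›
  have e : d ∣_ T.basicOpen b₀ = (d ⁻¹ᵁ T.basicOpen b₀).toScheme.isoSpec.hom ≫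
      Spec.map (d ∣_ T.basicOpen b₀).appTop ≫ (T.basicOpen b₀).toScheme.isoSpec.inv := by
    rw [← Category.assoc, Scheme.isoSpec_hom_naturality, Category.assoc, Iso.hom_inv_id, Category.comp_id]
  rw [e]
  infer_instance

/-- A quasi-compact open with finite type structure map descends to affine schemes with enough functions. -/
theorem exists_finset_openImmersion (W : N.Opens) (hW : IsCompact (W : Set N))
    [LocallyOfFiniteType (W.ι ≫ a)] :
    ∃ s : Finset Γ(N, ⊤), ∀ (T : Scheme.{u}) (_ : IsAffine T) (d : N ⟶ T),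
      Function.Injective d.appTop.hom → (∀ x ∈ s, x ∈ Set.range d.appTop.hom) →
      ∀ t : T ⟶ U, d ≫ t = a → IsOpenImmersion (W.ι ≫ d) := by
  classical
  obtain ⟨κ, hκ, hWeq⟩ : ∃ κ : Set Γ(N, ⊤), κ.Finite ∧ (W : Set N) = ⋃ b ∈ κ, (N.basicOpen b : Set N) :=
    (by
      have hsub : ∀ x : (W : Set N), ∃ b : Γ(N, ⊤), N.basicOpen b ≤ W ∧ x.1 ∈ N.basicOpen b := fun x =>
        (isAffineOpen_top N).exists_basicOpen_le x trivial
      choose β hβW hβx using hsub
      obtain ⟨F, hF⟩ := hW.elim_finite_subcover (fun x : (W : Set N) => (N.basicOpen (β x) : Set N))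
        (fun x => (N.basicOpen (β x)).isOpen) (fun x hx => Set.mem_iUnion.2 ⟨⟨x, hx⟩, hβx ⟨x, hx⟩⟩)
      refine ⟨β '' (F : Set _), F.finite_toSet.image β, Set.Subset.antisymm ?_ ?_⟩
      · rw [Set.biUnion_image]; exact hF
      · rw [Set.biUnion_image]; exact Set.iUnion₂_subset fun x _ => hβW x)
  have hle : ∀ b ∈ κ, N.basicOpen b ≤ W := fun b hb => by
    rw [← SetLike.coe_subset_coe, hWeq]
    exact Set.subset_biUnion_of_mem (u := fun b => (N.basicOpen b : Set N)) hb
  have hlft : ∀ b : κ, LocallyOfFiniteType ((N.basicOpen b.1).ι ≫ a) := fun b => by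
    rw [← Scheme.homOfLE_ι N (hle b.1 b.2), Category.assoc]
    infer_instance
  choose s _ hs using fun b : κ => (have := hlft b; exists_finset_basicOpen a b.1)
  have := hκ.fintype
  refine ⟨Finset.univ.biUnion s, fun T hT d hinj hmem t ht => ?_⟩
  choose V hV hiso using fun b : κ => hs b T hT d hinj
    (fun x hx => hmem x (Finset.mem_biUnion.2 ⟨b, Finset.mem_univ _, hx⟩)) t ht
  have hpre : d ⁻¹ᵁ (⨆ b, V b) = W := by
    rw [Scheme.Hom.preimage_iSup]
    refine Opens.ext ?_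
    rw [hWeq]
    simp [hV]
  have : IsIso (d ∣_ ⨆ b, V b) := by
    change MorphismProperty.isomorphisms Scheme.{u} _
    refine (IsZariskiLocalAtTarget.iff_of_iSup_eq_top (P := MorphismProperty.isomorphisms Scheme.{u})
      (fun b => (⨆ b, V b).ι ⁻¹ᵁ V b) ?_).2 fun b => ?_
    · rw [← Scheme.Hom.preimage_iSup]
      exact Scheme.Opens.ι_preimage_self _
    · refine ((MorphismProperty.isomorphisms Scheme.{u}).arrow_mk_iso_iff
        (morphismRestrictRestrict d _ _)).2 ?_
      have e : (⨆ b, V b).ι ''ᵁ ((⨆ b, V b).ι ⁻¹ᵁ V b) = V b := by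
        rw [Scheme.Hom.image_preimage_eq_opensRange_inf, Scheme.Opens.opensRange_ι]
        exact inf_eq_right.2 (le_iSup V b)
      rw [e]
      exact hiso b
  have e : W.ι ≫ d = (N.isoOfEq hpre.symm).hom ≫ (d ∣_ ⨆ b, V b) ≫ (⨆ b, V b).ι := by
    rw [morphismRestrict_ι, Scheme.isoOfEq_hom_ι_assoc]
  rw [e]
  infer_instance

end Groth.Agent.AlgSpEN.ZMT
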