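import Groth.Agent.AlgSpEN.ZMT.Pieces
import Groth.Agent.AlgSpEN.ZMT.DescDatum
import Groth.Agent.AlgSpEN.ZMT.OpenAlg
import Groth.Agent.AlgSpEN.StrataSq
import Groth.Agent.AlgSp.NormQfMain
import Groth.Agent.AlgSp.QCMor
import Groth.Agent.AlgSp.PointsMor
import Groth.Agent.AlgSp.DescentRep
import Groth.Agent.AlgSpCov.AffineFamily

/-!
# Zariski's main theorem: factorisation through a finite morphism
-/

universe u

open CategoryTheory CategoryTheory.Limits AlgebraicGeometry Opposite TopologicalSpace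

set_option backward.isDefEq.respectTransparency false
set_option backward.isDefEq.respectTransparency.types false
set_option autoImplicit false

namespace Groth.Agent.AlgSpEN.ZMT

open _root_.AlgSp
open Groth.Agent.AlgSpQC

variable {S : Scheme.{u}}

/-- A quasi-finite separated morphism is an open subspace of its normalization. -/
theorem exists_open_into_norm {X Y : Space S} (f : X ⟶ Y)
    (hf1 : LocP (@LocallyQuasiFinite ⊓ @LocallyOfFiniteType) f.hom) (hf2 : IsQuasiCompactMor f.hom)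
    (hf3 : IsSeparatedMor f.hom) :
    ∃ (N : Space S) (ν : N ⟶ Y) (f' : X ⟶ N), f' ≫ ν = f ∧ IsIntegralMor ν.hom ∧
      RepWith @IsOpenImmersion f'.hom := by
  obtain ⟨N₀, ν₀, f₀, hN, hsm⟩ := AlgSp.exists_isSmoothNorm X.property Y.property f.hom hf2
    (AlgSp.isQuasiSeparatedMor_of_sep hf3)
  have hn := hsm.relNorm Y.property hN
  let N : Space S := ⟨N₀, hN⟩
  let ν : N ⟶ Y := ObjectProperty.homMk ν₀
  let f' : X ⟶ N := ObjectProperty.homMk f₀
  have hft : IsFiniteTypeMor f.hom := ⟨fun U V a b h ha hb w => (hf1 a b h ha hb w).2, hf2⟩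
  obtain ⟨U', j, hj, hP⟩ := AlgSp.normalization_iso_over_qfLocus (ν := ν) (f' := f') hft hf3 hn
  have sq := IsPullback.of_hasPullback f'.hom j.hom
  let P : Space S := ⟨pullback f'.hom j.hom,
    AlgSp.isAlgSpace_pullback N.property X.property U'.property f'.hom j.hom⟩
  obtain ⟨hiso, hrange⟩ := hP P (ObjectProperty.homMk (pullback.fst _ _)) (ObjectProperty.homMk (pullback.snd _ _)) sq
  have hall : ∀ x, AlgSp.QfAtMor f.hom x := fun x => by
    obtain ⟨V, b, hb, hbs⟩ := Y.property.atlas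
    obtain ⟨W, a, m, ha, has, w⟩ := AlgSp.exists_chart_lift X.property Y.property f.hom b hb hbs
    obtain ⟨u, rfl⟩ := AlgSpB.surjective_ofPt has x
    obtain ⟨h1, h2⟩ := hf1 a b m ha hb w
    exact ⟨W, V, a, b, m, u, ha, hb, w, rfl, ⊤, trivial, inferInstance, inferInstance⟩
  have hfst : RepWith @IsOpenImmersion (pullback.fst f'.hom j.hom) := MorphismProperty.of_isPullback sq.flip hj
  have hfi : IsIso (ObjectProperty.homMk (pullback.fst f'.hom j.hom) : P ⟶ X) :=
    isIso_of_range_eq_univ _ hfst (Set.eq_univ_of_forall fun x => hrange.ge (hall x))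
  have : IsIso (pullback.fst f'.hom j.hom) :=
    inferInstanceAs (IsIso ((ObjectProperty.ι _).map (ObjectProperty.homMk (pullback.fst f'.hom j.hom) : P ⟶ X)))
  have : IsIso (pullback.snd f'.hom j.hom) := hiso
  refine ⟨N, ν, f', ObjectProperty.hom_ext _ hn.1, hn.2.1, ?_⟩
  have e : f'.hom = inv (pullback.fst f'.hom j.hom) ≫ pullback.snd f'.hom j.hom ≫ j.hom := by
    rw [IsIso.eq_inv_comp, sq.w]
  rw [e]
  exact MorphismProperty.RespectsIso.precomp _ _ _ (MorphismProperty.RespectsIso.precomp _ _ _ hj)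

variable {Y : Space S} {N : Sp S} {ν : N ⟶ Y.obj} {hν : Representable ν}

/-- The piece over an affine chart, mapping to the chart. -/
noncomputable def quotTY (D : SubAlgData hν) {U : Over S} [h : IsAffine U.left]
    (p : (yon S).obj U ⟶ Y.obj) (hp : RepWith @Etale p) : D.TE (EtOver.mk p hp) ⟶ U.left :=
  @SubAlgData.tY _ _ _ _ _ D (EtOver.mk p hp) h

/-- The structure map of the piece over an affine chart. -/
noncomputable def quotT (D : SubAlgData hν) {U : Over S} [IsAffine U.left]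
    (p : (yon S).obj U ⟶ Y.obj) (hp : RepWith @Etale p) : Over S :=
  Over.mk (quotTY D p hp ≫ U.hom)

noncomputable def quott (D : SubAlgData hν) {U : Over S} [IsAffine U.left]
    (p : (yon S).obj U ⟶ Y.obj) (hp : RepWith @Etale p) : quotT D p hp ⟶ U :=
  Over.homMk (quotTY D p hp) rfl

theorem quott_left (D : SubAlgData hν) {U : Over S} [IsAffine U.left]
    (p : (yon S).obj U ⟶ Y.obj) (hp : RepWith @Etale p) [IsAffine (EtOver.mk p hp).obj.left.left] :
    (quott D p hp).left = D.tY (EtOver.mk p hp) := rfl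

noncomputable def quotd (D : SubAlgData hν) {U : Over S} [IsAffine U.left]
    (p : (yon S).obj U ⟶ Y.obj) (hp : RepWith @Etale p) :
    (bcO hν (EtOver.mk p hp)).obj.left ⟶ quotT D p hp :=
  haveI : IsAffine (EtOver.mk p hp).obj.left.left := ‹IsAffine U.left›
  Over.homMk (D.dN (EtOver.mk p hp)) (by
    change D.dN (EtOver.mk p hp) ≫ quotTY D p hp ≫ U.hom = _
    rw [← Category.assoc]
    erw [D.dN_tY (EtOver.mk p hp)]
    exact Over.w (EtOver.bcπ hν (EtOver.mk p hp)))

theorem quotd_left (D : SubAlgData hν) {U : Over S} [IsAffine U.left]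
    (p : (yon S).obj U ⟶ Y.obj) (hp : RepWith @Etale p) :
    (quotd D p hp).left = D.dN (EtOver.mk p hp) := rfl

set_option maxHeartbeats 2000000 in
/-- The finite quotient attached to finite subalgebras. -/
theorem exists_quotient (haff : IsAffineMor ν) (D : SubAlgData hν) {U : Over S} [IsAffine U.left]
    (p : (yon S).obj U ⟶ Y.obj) (hp : RepWith @Etale p) (hps : RepWith @Surjective p) :
    ∃ (T₀ : Sp S) (νT : T₀ ⟶ Y.obj) (π : (yon S).obj (quotT D p hp) ⟶ T₀) (θ : N ⟶ T₀), IsAlgSpace T₀ ∧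
      RepWith @Etale π ∧ RepWith @Surjective π ∧ IsPullback π ((yon S).map (quott D p hp)) νT p ∧
      θ ≫ νT = ν ∧ (bcO hν (EtOver.mk p hp)).obj.hom ≫ θ = (yon S).map (quotd D p hp) ≫ π := by
  let E₀ := EtOver.mk p hp
  have : IsAffine E₀.obj.left.left := ‹IsAffine U.left›
  have : IsAffine (bcO hν E₀).obj.left.left := isAffine_bcO_and_map haff E₀
  let T := quotT D p hp
  let t : T ⟶ U := quott D p hp
  let d : (bcO hν E₀).obj.left ⟶ T := quotd D p hp
  have : IsAffine T.left := inferInstanceAs (IsAffine (D.TE E₀))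
  have ht : t.left = D.tY E₀ := rfl
  have hd : d.left = D.dN E₀ := rfl
  let νN : (bcO hν E₀).obj.left ⟶ U := EtOver.bcπ hν E₀
  have sN : IsPullback (bcO hν E₀).obj.hom ((yon S).map νN) ν p := EtOver.isPullback_bcObj hν E₀
  obtain ⟨R, q₁, q₂, sR⟩ := AlgSpB.exists_pullback_yon hp.1 p
  have hq₁ : Etale q₁.left := hp.2 _ _ _ sR.flip
  have hq₂ : Etale q₂.left := hp.2 _ _ _ sR
  have hd' : d ≫ t = νN := Over.OverMorphism.ext (D.dN_tY E₀)
  have hfin : IsFinite t.left := D.isFinite_tY E₀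
  have : IsSeparated t.left := inferInstance
  have hker : d.left.ker = ⊥ := D.ker_dN E₀
  have : QuasiCompact d.left := inferInstance
  -- the universal lift
  obtain ⟨y₀, hy₀⟩ := (yon S).map_surjective (sN.lift ((yon S).map (pullback.fst νN q₁) ≫ (bcO hν E₀).obj.hom)
    ((yon S).map (pullback.snd νN q₁ ≫ q₂)) (by
      rw [Category.assoc, sN.w, ← Functor.map_comp_assoc, pullback.condition, Functor.map_comp_assoc, sR.w,
        ← Functor.map_comp_assoc]))
  have hy₀π : (yon S).map y₀ ≫ (bcO hν E₀).obj.hom =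
      (yon S).map (pullback.fst νN q₁) ≫ (bcO hν E₀).obj.hom := by rw [hy₀, sN.lift_fst]
  have hy₀ν : y₀ ≫ νN = pullback.snd νN q₁ ≫ q₂ :=
    (yon S).map_injective (by rw [Functor.map_comp, hy₀, sN.lift_snd])
  let P₁ := pullback t q₁
  let d₁ : pullback νN q₁ ⟶ P₁ := dB t νN d hd' q₁
  have : QuasiCompact d₁.left := qc_dB t νN d hd' q₁
  have hker₁ : d₁.left.ker = ⊥ := ker_dB t νN d hd' q₁ hker
  -- the affine pieces of the relation
  let O : R.left.affineOpens → P₁.left.Opens := fun V => (pullback.snd t q₁).left ⁻¹ᵁ V.1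
  have hpiece : ∀ V : R.left.affineOpens, ∃ l : (O V).toScheme ⟶ T.left,
      l ≫ t.left = (O V).ι ≫ (pullback.snd t q₁).left ≫ q₂.left ∧
      (d₁.left ∣_ O V) ≫ l = (d₁.left ⁻¹ᵁ O V).ι ≫ y₀.left ≫ d.left := by
    intro V
    let Vo : Over S := Over.mk (V.1.ι ≫ R.hom)
    let ιV : Vo ⟶ R := Over.homMk V.1.ι rfl
    have : Etale (ιV ≫ q₁).left := inferInstanceAs (Etale (V.1.ι ≫ q₁.left))
    let EV : EtOver Y.obj := EtOver.mk ((yon S).map (ιV ≫ q₁) ≫ p)
      (AlgSpB.repWith_etale_map_comp _ hp)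
    have : IsAffine EV.obj.left.left := V.2
    let g₁ : EV ⟶ E₀ := EtOver.homMk (ιV ≫ q₁) rfl
    let g₂ : EV ⟶ E₀ := EtOver.homMk (ιV ≫ q₂) (by
      change (yon S).map (ιV ≫ q₂) ≫ p = (yon S).map (ιV ≫ q₁) ≫ p
      rw [Functor.map_comp, Functor.map_comp, Category.assoc, Category.assoc, sR.w])
    have sqT := D.isPullback_tM haff g₁
    let o : (O V).toScheme ⟶ V.1.toScheme := (pullback.snd t q₁).left ∣_ V.1
    have ho : o ≫ V.1.ι = (O V).ι ≫ (pullback.snd t q₁).left := morphismRestrict_ι _ _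
    have hcond : (pullback.fst t q₁).left ≫ t.left = (pullback.snd t q₁).left ≫ q₁.left :=
      congrArg Over.Hom.left pullback.condition
    obtain ⟨c, hc₁, hc₂⟩ := sqT.exists_lift ((O V).ι ≫ (pullback.fst t q₁).left) o (by
      change ((O V).ι ≫ (pullback.fst t q₁).left) ≫ D.tY E₀ = o ≫ V.1.ι ≫ q₁.left
      rw [Category.assoc, ← ht, hcond, reassoc_of% ho])
    refine ⟨c ≫ D.tM g₂, ?_, ?_⟩
    · rw [ht, Category.assoc]
      change c ≫ D.tM g₂ ≫ D.tY E₀ = _
      rw [D.tM_tY g₂, reassoc_of% hc₂]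
      change o ≫ V.1.ι ≫ q₂.left = _
      rw [reassoc_of% ho]
    -- the lift to the normalization
    have hV₁ := EtOver.isPullback_bcMap_left hν g₁
    have hd₁fst : d₁.left ≫ (pullback.fst t q₁).left = (pullback.fst νN q₁).left ≫ d.left :=
      congrArg (fun m => m.left) (dB_fst t νN d hd' q₁)
    have hd₁snd : d₁.left ≫ (pullback.snd t q₁).left = (pullback.snd νN q₁).left :=
      congrArg (fun m => m.left) (dB_snd t νN d hd' q₁)
    let O' := d₁.left ⁻¹ᵁ O V
    have hcondN : (pullback.fst νN q₁).left ≫ νN.left = (pullback.snd νN q₁).left ≫ q₁.left :=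
      congrArg Over.Hom.left pullback.condition
    obtain ⟨z, hz₁, hz₂⟩ := hV₁.exists_lift (O'.ι ≫ (pullback.fst νN q₁).left) ((d₁.left ∣_ O V) ≫ o) (by
      change (O'.ι ≫ (pullback.fst νN q₁).left) ≫ νN.left = ((d₁.left ∣_ O V) ≫ o) ≫ V.1.ι ≫ q₁.left
      rw [Category.assoc, hcondN, Category.assoc, reassoc_of% ho, morphismRestrict_ι_assoc,
        reassoc_of% hd₁snd])
    have hz₁ : z ≫ (bcM hν g₁).hom.left.left = O'.ι ≫ (pullback.fst νN q₁).left := hz₁
    have hzc : (d₁.left ∣_ O V) ≫ c = z ≫ D.dN EV := by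
      apply sqT.hom_ext
      · rw [Category.assoc, hc₁, Category.assoc, D.dN_tM g₁, reassoc_of% hz₁, morphismRestrict_ι_assoc,
          hd₁fst, hd]
      · rw [Category.assoc, hc₂, Category.assoc, D.dN_tY EV]
        exact hz₂.symm
    rw [reassoc_of% hzc, D.dN_tM g₂]
    -- compare the two maps to the normalization
    let Zo : Over S := Over.mk (O'.ι ≫ (pullback νN q₁).hom)
    let ιZ : Zo ⟶ pullback νN q₁ := Over.homMk O'.ι rfl
    have hzS : z ≫ (bcO hν EV).obj.left.hom = O'.ι ≫ (pullback νN q₁).hom := by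
      rw [← Over.w (bcM hν g₁).hom.left, reassoc_of% hz₁, Over.w]
    let zo : Zo ⟶ (bcO hν EV).obj.left := Over.homMk z hzS
    have key : zo ≫ (bcM hν g₂).hom.left = ιZ ≫ y₀ := by
      apply (yon S).map_injective
      apply sN.hom_ext
      · have e1 : zo ≫ (bcM hν g₁).hom.left = ιZ ≫ pullback.fst νN q₁ := Over.OverMorphism.ext hz₁
        have w₁ : (yon S).map (bcM hν g₁).hom.left ≫ (bcO hν E₀).obj.hom = (bcO hν EV).obj.hom :=
          CostructuredArrow.w (bcM hν g₁).hom
        have w₂ : (yon S).map (bcM hν g₂).hom.left ≫ (bcO hν E₀).obj.hom = (bcO hν EV).obj.hom :=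
          CostructuredArrow.w (bcM hν g₂).hom
        rw [Functor.map_comp, Functor.map_comp, Category.assoc, Category.assoc, w₂, hy₀π, ← w₁,
          ← Functor.map_comp_assoc, e1, Functor.map_comp_assoc]
      · rw [← Functor.map_comp, ← Functor.map_comp]
        congr 1
        rw [Category.assoc, Category.assoc, hy₀ν]
        apply Over.OverMorphism.ext
        change z ≫ (bcM hν g₂).hom.left.left ≫ (EtOver.bcπ hν E₀).left = O'.ι ≫ (pullback.snd νN q₁).left ≫ q₂.left
        erw [(EtOver.isPullback_bcMap_left hν g₂).w, reassoc_of% hz₂]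
        change (d₁.left ∣_ O V) ≫ o ≫ V.1.ι ≫ q₂.left = _
        rw [reassoc_of% ho, morphismRestrict_ι_assoc, reassoc_of% hd₁snd]
    have := congrArg (fun m => m.left) key
    simp only [Over.comp_left] at this
    change z ≫ (bcM hν g₂).hom.left.left = O'.ι ≫ y₀.left at this
    rw [reassoc_of% this, hd]
  choose l hl₁ hl₂ using hpiece
  -- agreement on overlaps
  have hagree : ∀ V W : R.left.affineOpens,
      P₁.left.homOfLE (inf_le_left : O V ⊓ O W ≤ O V) ≫ l V =
        P₁.left.homOfLE (inf_le_right : O V ⊓ O W ≤ O W) ≫ l W := by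
    intro V W
    have hk : (d₁.left ∣_ (O V ⊓ O W)).ker = ⊥ := by
      rw [AlgSp.KerFlat.ker_of_isPullback (isPullback_morphismRestrict d₁.left _).flip, hker₁,
        Scheme.IdealSheafData.comap_bot]
    have hres : ∀ {A : P₁.left.Opens} (h : O V ⊓ O W ≤ A), (d₁.left ∣_ (O V ⊓ O W)) ≫ P₁.left.homOfLE h =
        (pullback νN q₁).left.homOfLE (d₁.left.preimage_mono h) ≫ (d₁.left ∣_ A) := fun h => by
      rw [← cancel_mono (Scheme.Opens.ι _), Category.assoc, Category.assoc, Scheme.homOfLE_ι, morphismRestrict_ι,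
        morphismRestrict_ι, Scheme.homOfLE_ι_assoc]
    refine eq_of_ker_eq_bot (d₁.left ∣_ (O V ⊓ O W)) hk t.left ?_ ?_
    · rw [Category.assoc, Category.assoc, hl₁, hl₁, Scheme.homOfLE_ι_assoc, Scheme.homOfLE_ι_assoc]
    · rw [reassoc_of% hres, reassoc_of% hres, hl₂, hl₂, Scheme.homOfLE_ι_assoc, Scheme.homOfLE_ι_assoc]
  have hO : ⨆ V, O V = ⊤ := by
    rw [← Scheme.Hom.preimage_iSup, iSup_affineOpens_eq_top, Scheme.Hom.preimage_top]
  let 𝒰 := P₁.left.openCoverOfIsOpenCover O hO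
  obtain ⟨τl, hτl⟩ : ∃ τl : P₁.left ⟶ T.left, ∀ V, (O V).ι ≫ τl = l V := by
    refine ⟨𝒰.glueMorphisms l fun V W => ?_, fun V => 𝒰.ι_glueMorphisms l _ V⟩
    change pullback.fst (O V).ι (O W).ι ≫ l V = pullback.snd (O V).ι (O W).ι ≫ l W
    obtain ⟨m, hm⟩ : ∃ m, m ≫ (O V ⊓ O W).ι = pullback.fst (O V).ι (O W).ι ≫ (O V).ι := by
      refine ⟨IsOpenImmersion.lift (O V ⊓ O W).ι _ ?_, IsOpenImmersion.lift_fac _ _ _⟩
      rintro _ ⟨x, rfl⟩
      rw [Scheme.Opens.range_ι]
      refine ⟨((pullback.fst (O V).ι (O W).ι) x).2, ?_⟩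
      rw [pullback.condition]
      exact ((pullback.snd (O V).ι (O W).ι) x).2
    have e1 : m ≫ P₁.left.homOfLE inf_le_left = pullback.fst (O V).ι (O W).ι := by
      rw [← cancel_mono (O V).ι, Category.assoc, Scheme.homOfLE_ι, hm]
    have e2 : m ≫ P₁.left.homOfLE inf_le_right = pullback.snd (O V).ι (O W).ι := by
      rw [← cancel_mono (O W).ι, Category.assoc, Scheme.homOfLE_ι, hm, pullback.condition]
    rw [← e1, ← e2, Category.assoc, Category.assoc, hagree V W]
  have hτt : τl ≫ t.left = (pullback.snd t q₁).left ≫ q₂.left := by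
    refine 𝒰.hom_ext _ _ fun V => ?_
    change (O V).ι ≫ τl ≫ t.left = (O V).ι ≫ _
    rw [reassoc_of% hτl, hl₁]
  let τ : P₁ ⟶ T := Over.homMk τl (by
    rw [← Over.w t, reassoc_of% hτt, Over.w q₂, Over.w])
  refine exists_descent t νN d hd' Y.property p hp hps sN sR hker τ (Over.OverMorphism.ext hτt) ?_
  intro Z x y hy₁ hy₂
  have hy : y = x ≫ y₀ := (yon S).map_injective (sN.hom_ext
    (by rw [Functor.map_comp, Category.assoc, hy₀π, hy₁, Functor.map_comp, Category.assoc])
    (by rw [← Functor.map_comp, ← Functor.map_comp, Category.assoc, hy₀ν, hy₂]))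
  rw [hy, Category.assoc]
  congr 1
  apply Over.OverMorphism.ext
  refine ((pullback νN q₁).left.openCoverOfIsOpenCover (fun V => d₁.left ⁻¹ᵁ O V) (by
    change ⨆ V, d₁.left ⁻¹ᵁ O V = ⊤
    rw [← Scheme.Hom.preimage_iSup, hO, Scheme.Hom.preimage_top])).hom_ext _ _ fun V => ?_
  change (d₁.left ⁻¹ᵁ O V).ι ≫ d₁.left ≫ τl = (d₁.left ⁻¹ᵁ O V).ι ≫ y₀.left ≫ d.left
  rw [← morphismRestrict_ι_assoc, hτl, hl₂]

end Groth.Agent.AlgSpEN.ZMT
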