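import Groth.Agent.AlgSpEN.ZMT.SubAlg
import Groth.Agent.AlgSp.KerFlat
import Mathlib.AlgebraicGeometry.Morphisms.Finite

/-!
# The affine pieces of the finite quotient of an integral space
-/

universe u

open CategoryTheory CategoryTheory.Limits AlgebraicGeometry Opposite

set_option backward.isDefEq.respectTransparency false
set_option backward.isDefEq.respectTransparency.types false
set_option autoImplicit false

namespace Groth.Agent.AlgSpEN.ZMT

open _root_.AlgSp
open Groth.Agent.AlgSpQC

/-- An injective ring map gives a dominant map of affine schemes. -/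
theorem ker_eq_bot_of_injective {X Y : Scheme.{u}} [IsAffine Y] (f : X ⟶ Y)
    (h : Function.Injective f.appTop.hom) : f.ker = ⊥ := by
  refine eq_bot_iff.2 (Scheme.IdealSheafData.le_of_isAffine ?_)
  intro x hx
  rw [f.ideal_ker_le _ |>.antisymm ?_, RingHom.mem_ker] at hx
  · have : x = 0 := h (hx.trans (map_zero _).symm)
    simp [this]
  · rw [Scheme.ker_of_isAffine]
    simp

theorem injective_of_ker_eq_bot {X Y : Scheme.{u}} [IsAffine Y] (f : X ⟶ Y) (h : f.ker = ⊥) :
    Function.Injective f.appTop.hom := by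
  rw [RingHom.injective_iff_ker_eq_bot]
  have := congrArg (fun I => Scheme.IdealSheafData.ideal I ⟨⊤, isAffineOpen_top Y⟩) h
  simp only [Scheme.IdealSheafData.ideal_bot, Pi.bot_apply] at this
  rw [← this, Scheme.ker_of_isAffine]
  simp

theorem appTop_injective_specMap {A B : CommRingCat.{u}} (φ : A ⟶ B) (h : Function.Injective φ.hom) :
    Function.Injective (Spec.map φ).appTop.hom := by
  have e : (Spec.map φ).appTop = (Scheme.ΓSpecIso A).hom ≫ φ ≫ (Scheme.ΓSpecIso B).inv := by
    rw [← Scheme.ΓSpecIso_naturality_assoc, Iso.hom_inv_id, Category.comp_id]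
  rw [e]
  exact ((Scheme.ΓSpecIso B).commRingCatIsoToRingEquiv.symm.injective.comp h).comp
    (Scheme.ΓSpecIso A).commRingCatIsoToRingEquiv.injective

@[reassoc]
theorem isoSpec_inv_appTop_comp (X : Scheme.{u}) [IsAffine X] :
    X.isoSpec.inv.appTop ≫ (Scheme.ΓSpecIso Γ(X, ⊤)).hom = 𝟙 _ := by
  rw [← Scheme.toSpecΓ_appTop, ← Scheme.Hom.comp_appTop]
  exact congrArg Scheme.Hom.appTop X.isoSpec.hom_inv_id

variable {S : Scheme.{u}} {Y : Space S} {N : Sp S} {ν : N ⟶ Y.obj} {hν : Representable ν} (D : SubAlgData hν)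

namespace SubAlgData

/-- The spectrum of the subalgebra. -/
noncomputable def TE (E : EtOver Y.obj) : Scheme.{u} := Spec (CommRingCat.of (D.A E))

instance (E : EtOver Y.obj) : IsAffine (D.TE E) := inferInstanceAs (IsAffine (Spec _))

/-- The structure map of a piece. -/
noncomputable def tY (E : EtOver Y.obj) [IsAffine E.obj.left.left] : D.TE E ⟶ E.obj.left.left :=
  Spec.map (CommRingCat.ofHom ((gπ hν E).codRestrict (D.A E) (D.gπ_mem E))) ≫ E.obj.left.left.isoSpec.inv

/-- The dominant map to a piece. -/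
noncomputable def dN (E : EtOver Y.obj) : (bcO hν E).obj.left.left ⟶ D.TE E :=
  (bcO hν E).obj.left.left.toSpecΓ ≫ Spec.map (CommRingCat.ofHom (D.A E).subtype)

theorem isFinite_tY (E : EtOver Y.obj) [IsAffine E.obj.left.left] : IsFinite (D.tY E) := by
  have : IsFinite (Spec.map (CommRingCat.ofHom ((gπ hν E).codRestrict (D.A E) (D.gπ_mem E)))) :=
    (IsFinite.SpecMap_iff _).2 (D.finite E ‹_›)
  delta tY
  infer_instance

theorem dN_tY (E : EtOver Y.obj) [IsAffine E.obj.left.left] :
    D.dN E ≫ D.tY E = (EtOver.bcπ hν E).left := by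
  delta dN tY
  rw [Category.assoc, ← Spec.map_comp_assoc]
  have e : CommRingCat.ofHom ((gπ hν E).codRestrict (D.A E) (D.gπ_mem E)) ≫ CommRingCat.ofHom (D.A E).subtype =
      (EtOver.bcπ hν E).left.appTop := rfl
  rw [e, ← Category.assoc]
  exact (Iso.comp_inv_eq _).2 (Scheme.toSpecΓ_naturality (EtOver.bcπ hν E).left).symm

theorem ker_dN (E : EtOver Y.obj) [IsAffine (bcO hν E).obj.left.left] : (D.dN E).ker = ⊥ := by
  refine ker_eq_bot_of_injective _ ?_
  delta dN
  rw [Scheme.Hom.comp_appTop, CommRingCat.hom_comp]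
  exact (ConcreteCategory.bijective_of_isIso
    ((bcO hν E).obj.left.left.toSpecΓ.appTop)).1.comp (appTop_injective_specMap _ Subtype.val_injective)

/-- The map of pieces along a map of charts. -/
noncomputable def tM {E W : EtOver Y.obj} (g : W ⟶ E) : D.TE W ⟶ D.TE E :=
  Spec.map (CommRingCat.ofHom (((gm (bcM hν g)).comp (D.A E).subtype).codRestrict (D.A W)
    fun b => D.res_mem g b.2))

theorem dN_tM {E W : EtOver Y.obj} (g : W ⟶ E) :
    D.dN W ≫ D.tM g = (bcM hν g).hom.left.left ≫ D.dN E := by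
  delta dN tM
  rw [Category.assoc, ← Spec.map_comp, Scheme.toSpecΓ_naturality_assoc, ← Spec.map_comp]
  rfl

theorem tM_tY {E W : EtOver Y.obj} [IsAffine E.obj.left.left] [IsAffine W.obj.left.left] (g : W ⟶ E) :
    D.tM g ≫ D.tY E = D.tY W ≫ g.hom.left.left := by
  delta tM tY
  rw [← Category.assoc, ← Spec.map_comp]
  have e : CommRingCat.ofHom ((gπ hν E).codRestrict (D.A E) (D.gπ_mem E)) ≫
      CommRingCat.ofHom (((gm (bcM hν g)).comp (D.A E).subtype).codRestrict (D.A W) fun b => D.res_mem g b.2) =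
      g.hom.left.left.appTop ≫ CommRingCat.ofHom ((gπ hν W).codRestrict (D.A W) (D.gπ_mem W)) := by
    refine CommRingCat.hom_ext (RingHom.ext fun a => Subtype.ext ?_)
    exact (gπ_gm hν g a).symm
  rw [e, Spec.map_comp, Category.assoc, Category.assoc]
  congr 1
  rw [Iso.eq_inv_comp, ← Category.assoc, Iso.comp_inv_eq]
  exact Scheme.isoSpec_hom_naturality _

set_option maxHeartbeats 1000000 in
/-- The pieces are cartesian. -/
theorem isPullback_tM (haff : IsAffineMor ν) {E W : EtOver Y.obj} [IsAffine E.obj.left.left]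
    [IsAffine W.obj.left.left] (g : W ⟶ E) : IsPullback (D.tM g) (D.tY W) (D.tY E) g.hom.left.left := by
  have := D.isFinite_tY E
  have : IsAffine (bcO hν E).obj.left.left := isAffine_bcO_and_map haff E
  have : IsAffine (bcO hν W).obj.left.left := isAffine_bcO_and_map haff W
  have : Etale g.hom.left.left := EtOver.etale_left g
  let P := pullback (D.tY E) g.hom.left.left
  have : IsAffine P := isAffine_of_isAffineHom (pullback.snd (D.tY E) g.hom.left.left)
  let c : D.TE W ⟶ P := pullback.lift (D.tM g) (D.tY W) (D.tM_tY g)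
  have hc₁ : c ≫ pullback.fst _ _ = D.tM g := pullback.lift_fst _ _ _
  have hc₂ : c ≫ pullback.snd _ _ = D.tY W := pullback.lift_snd _ _ _
  -- dominance
  have sq : IsPullback (bcM hν g).hom.left.left (D.dN W ≫ c) (D.dN E)
      (pullback.fst (D.tY E) g.hom.left.left) := by
    refine IsPullback.of_bot (v₂₁ := pullback.snd (D.tY E) g.hom.left.left) (v₂₂ := D.tY E) ?_ ?_
      (IsPullback.of_hasPullback _ _)
    · rw [D.dN_tY E, Category.assoc, hc₂, D.dN_tY W]
      exact EtOver.isPullback_bcMap_left hν g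
    · rw [Category.assoc, hc₁, D.dN_tM g]
  have : QuasiCompact (D.dN E) := inferInstance
  have hker : (D.dN W ≫ c).ker = ⊥ := by
    rw [AlgSp.KerFlat.ker_of_isPullback sq, D.ker_dN E, Scheme.IdealSheafData.comap_bot]
  have hcinj : Function.Injective c.appTop.hom := by
    have := injective_of_ker_eq_bot _ hker
    rw [Scheme.Hom.comp_appTop, CommRingCat.hom_comp] at this
    rw [RingHom.coe_comp] at this
    exact Function.Injective.of_comp this
  let φ : Γ(P, ⊤) ⟶ CommRingCat.of (D.A W) := c.appTop ≫ (Scheme.ΓSpecIso _).hom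
  have hφsurj : Function.Surjective φ.hom := by
    intro a
    suffices a ∈ φ.hom.range from this
    let I : Subring (gr (bcO hν W)) := φ.hom.range.map (D.A W).subtype
    suffices D.A W ≤ I by
      obtain ⟨y, hy, e⟩ := this a.2
      exact (Subtype.ext e : y = a) ▸ hy
    refine (D.gen g ‹_› ‹_›).trans (Subring.closure_le.2 ?_)
    rintro _ (⟨r, rfl⟩ | ⟨b, hb, rfl⟩)
    · refine ⟨⟨gπ hν W r, D.gπ_mem W r⟩, ⟨(pullback.snd (D.tY E) g.hom.left.left).appTop r, ?_⟩, rfl⟩
      change ((pullback.snd (D.tY E) g.hom.left.left).appTop ≫ c.appTop ≫ (Scheme.ΓSpecIso _).hom) r = _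
      rw [← Category.assoc, ← Scheme.Hom.comp_appTop, hc₂]
      delta tY
      rw [Scheme.Hom.comp_appTop, Category.assoc, Scheme.ΓSpecIso_naturality]
      exact congrArg (fun m => (CommRingCat.Hom.hom m) r)
        (isoSpec_inv_appTop_comp_assoc W.obj.left.left
          (CommRingCat.ofHom ((gπ hν W).codRestrict (D.A W) (D.gπ_mem W))))
    · refine ⟨⟨gm (bcM hν g) b, D.res_mem g hb⟩,
        ⟨(pullback.fst (D.tY E) g.hom.left.left).appTop ((Scheme.ΓSpecIso (CommRingCat.of (D.A E))).inv ⟨b, hb⟩), ?_⟩, rfl⟩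
      change ((Scheme.ΓSpecIso (CommRingCat.of (D.A E))).inv ≫ (pullback.fst (D.tY E) g.hom.left.left).appTop ≫ c.appTop ≫
        (Scheme.ΓSpecIso _).hom) ⟨b, hb⟩ = _
      rw [← Category.assoc (pullback.fst (D.tY E) g.hom.left.left).appTop, ← Scheme.Hom.comp_appTop, hc₁]
      delta tM
      rw [Scheme.ΓSpecIso_naturality, Iso.inv_hom_id_assoc]
      rfl
  have : IsIso c.appTop := by
    refine ConcreteCategory.isIso_iff_bijective _ |>.2 ⟨hcinj, fun y => ?_⟩
    obtain ⟨p, hp⟩ := hφsurj ((Scheme.ΓSpecIso _).hom y)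
    exact ⟨p, (Scheme.ΓSpecIso (CommRingCat.of (D.A W))).commRingCatIsoToRingEquiv.injective hp⟩
  have : IsIso c := by
    have e : c = (D.TE W).isoSpec.hom ≫ Spec.map c.appTop ≫ P.isoSpec.inv := by
      rw [← Category.assoc, Scheme.isoSpec_hom_naturality, Category.assoc, Iso.hom_inv_id, Category.comp_id]
    rw [e]
    infer_instance
  exact (IsPullback.of_hasPullback _ _).of_iso (asIso c).symm (Iso.refl _) (Iso.refl _) (Iso.refl _)
    (by simp [c, P]) (by simp [c, P]) (by simp) (by simp)

end SubAlgData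

end Groth.Agent.AlgSpEN.ZMT
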