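import Groth.Agent.AlgSpQC.Push

/-!
# The structure sheaf is quasi-coherent
-/

universe u

open CategoryTheory CategoryTheory.Limits AlgebraicGeometry Opposite TensorProduct

set_option backward.isDefEq.respectTransparency false
set_option backward.isDefEq.respectTransparency.types false
set_option autoImplicit false

namespace Groth.Agent.AlgSpEN.ZMT

open _root_.AlgSp
open Groth.Agent.AlgSpQC

variable {S : Scheme.{u}} {X : Sp S}

/-- A function as a section of the structure sheaf. -/
noncomputable def u1 (E : EtOver X) : gr E ≃+ sectModEt (unitModEt X) E :=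
  ULift.ringEquiv.symm.toAddEquiv

theorem smul_u1 {E : EtOver X} (a b : gr E) : a • u1 E b = u1 E (a * b) := rfl

theorem rs_u1 {E E' : EtOver X} (g : E' ⟶ E) (a : gr E) :
    rs (unitModEt X) g (u1 E a) = u1 E' (gm g a) := rfl

/-- The structure sheaf is quasi-coherent. -/
theorem isQuasicoherent_unit : (unitModEt X).IsQuasicoherent := by
  refine isQuasicoherent_of_bc fun E W g _ _ => ?_
  let _ : Algebra (gr E) (gr W) := (gm g).toAlgebra
  refine (isBC_iff (A := gr E) (rs (unitModEt X) g) (rs_smul g)).2 ?_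
  let back : sectModEt (unitModEt X) W → gr W ⊗[gr E] sectModEt (unitModEt X) E :=
    fun l => (u1 W).symm l ⊗ₜ u1 E 1
  refine ⟨fun x y hxy => ?_, fun l => ⟨back l, ?_⟩⟩
  · have key : ∀ z, back (bc (rs (unitModEt X) g) (rs_smul g) z) = z := fun z => by
      induction z using TensorProduct.induction_on with
      | zero =>
        change (u1 W).symm (bc _ _ 0) ⊗ₜ u1 E 1 = 0
        rw [map_zero, map_zero, TensorProduct.zero_tmul]
      | add a b ha hb =>
        change (u1 W).symm (bc _ _ (a + b)) ⊗ₜ u1 E 1 = a + b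
        rw [map_add, map_add, TensorProduct.add_tmul]
        exact congrArg₂ (· + ·) ha hb
      | tmul r s =>
        obtain ⟨s, rfl⟩ := (u1 E).surjective s
        change (u1 W).symm (bc _ _ (r ⊗ₜ u1 E s)) ⊗ₜ u1 E 1 = r ⊗ₜ u1 E s
        rw [bc_tmul, rs_u1, smul_u1, AddEquiv.symm_apply_apply, mul_comm, ← smul_eq_mul,
          show gm g s • r = s • r from rfl, TensorProduct.smul_tmul, smul_u1, mul_one]
    rw [← key x, ← key y, hxy]
  · obtain ⟨l, rfl⟩ := (u1 W).surjective l
    change bc _ _ ((u1 W).symm (u1 W l) ⊗ₜ u1 E 1) = u1 W l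
    rw [AddEquiv.symm_apply_apply, bc_tmul, rs_u1, smul_u1, map_one, mul_one]

end Groth.Agent.AlgSpEN.ZMT
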